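import Groth.Agent.FlatMor2.RelFlatLocus.Main
import Groth.Agent.FlatMorOne.GenFlatModule
import Groth.Agent.SpectralTopology.Constructible

/-!
# A module not flat on the generic fibre is not flat on nearby fibres
-/

set_option autoImplicit false
set_option linter.style.haveILetI false

universe u

open CategoryTheory CategoryTheory.Limits AlgebraicGeometry Topology

namespace Groth.FlatMor2.FibreFlatGeneric

variable {X Y S : Scheme.{u}} (f : X ⟶ Y) (g : Y ⟶ S) (F : X.Modules) [F.IsQuasicoherent]

/-- For a module flat over the base at a point, relative flatness is flatness on the fibre. -/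
theorem fibre_flat_iff [LocallyOfFinitePresentation (f ≫ g)] [LocallyOfFiniteType g]
    (hfp : CohB1.IsFP F) (s : S) (z : (f ≫ g).fiber s)
    (hfl : FlatMod.IsFlatOverAt (f ≫ g) F ((f ≫ g).fiberι s z)) :
    FlatMod.IsFlatOverAt (MoreMor.fiberMap f g s)
        ((Scheme.Modules.pullback ((f ≫ g).fiberι s)).obj F) z ↔
      FlatMod.IsFlatOverAt f F ((f ≫ g).fiberι s z) := by
  refine ⟨fun h => ?_,
    Groth.FlatMorOne.isFlatOverAt_baseChange (Groth.AlgSp2.FlatFib.isPullback_fiberMap f g s) F z⟩
  rcases subsingleton_or_nontrivial (F.presheaf.stalk ((f ≫ g).fiberι s z)) with hs | hnt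
  · letI := FlatMod.moduleStalkOver f F ((f ≫ g).fiberι s z)
    exact inferInstanceAs (Module.Flat _ _)
  exact ((Groth.FlatMor2.FibCrit.module_iff f g F hfp _ hnt).1
    ⟨hfl, (Groth.FlatMor2.RelFlatLocus.fiberMap_module_flat_iff f g s F z _ rfl).1 h⟩).2

/-- If the restriction to the generic fibre is not flat, so are those to the nearby fibres. -/
theorem exists_nhd_not_flat [IsIntegral S] [IsNoetherian S] [LocallyOfFiniteType g] [QuasiCompact g]
    [LocallyOfFiniteType (f ≫ g)] [QuasiCompact (f ≫ g)] (hfp : CohB1.IsFP F)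
    (hη : ¬ FlatMod.IsFlatOver (MoreMor.fiberMap f g (genericPoint S))
      ((Scheme.Modules.pullback ((f ≫ g).fiberι (genericPoint S))).obj F)) :
    ∃ U : S.Opens, genericPoint S ∈ U ∧ ∀ s ∈ U, ¬ FlatMod.IsFlatOver (MoreMor.fiberMap f g s)
      ((Scheme.Modules.pullback ((f ≫ g).fiberι s)).obj F) := by
  haveI : LocallyOfFinitePresentation (f ≫ g) := inferInstance
  obtain ⟨U₁, hU₁, hflat⟩ := Groth.FlatMorOne.exists_open_isFlatOverAt (f ≫ g) F fun W hW =>
    haveI := Groth.PropsBasic.FPSections.finitePresentation_sections F hfp hW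
    inferInstance
  have hη₁ : genericPoint S ∈ U₁ :=
    (genericPoint_spec S).mem_open_set_iff U₁.2 |>.2 (by simpa using hU₁)
  let T : Set X := {x | FlatMod.IsFlatOverAt f F x}ᶜ ∩ (f ≫ g) ⁻¹' U₁
  haveI : IsLocallyNoetherian X := LocallyOfFiniteType.isLocallyNoetherian (f ≫ g)
  haveI : CompactSpace X := QuasiCompact.compactSpace_of_compactSpace (f ≫ g)
  haveI : IsNoetherian X := {}
  have hT : IsConstructible T := by
    refine IsConstructible.inter ?_ ?_
    · exact ((TopologicalSpace.NoetherianSpace.isCompact _).isConstructible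
        (Groth.FlatMor2.RelFlatLocus.isOpen_flatLocus f g F hfp)).compl
    · exact (TopologicalSpace.NoetherianSpace.isCompact _).isConstructible (U₁.2.preimage (f ≫ g).continuous)
  have hE : IsConstructible ((f ≫ g) '' T) := (f ≫ g).isConstructible_image hT
  have hηE : genericPoint S ∈ (f ≫ g) '' T := by
    rw [FlatMod.IsFlatOver] at hη
    push Not at hη
    obtain ⟨z, hz⟩ := hη
    have hzs : (f ≫ g) ((f ≫ g).fiberι (genericPoint S) z) = genericPoint S := by
      have : (f ≫ g).fiberι (genericPoint S) z ∈ Set.range ((f ≫ g).fiberι (genericPoint S)) := ⟨z, rfl⟩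
      rwa [Scheme.Hom.range_fiberι] at this
    refine ⟨_, ⟨fun h => hz ?_, by rw [Set.mem_preimage, hzs]; exact hη₁⟩, hzs⟩
    exact (fibre_flat_iff f g F hfp _ z (hflat _ (by rw [hzs]; exact hη₁))).2 h
  obtain ⟨U, hU, hUne, hUE⟩ := Groth.SpectralTopology.exists_open_of_dense hE
    (IrreducibleSpace.isIrreducible_univ S) (fun x _ => by
      rw [Set.inter_univ]
      exact closure_mono (Set.singleton_subset_iff.2 hηE) ((genericPoint_spec S).def.ge (Set.mem_univ x)))
  refine ⟨⟨U, hU⟩, ?_, fun s hs hflats => ?_⟩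
  · exact (genericPoint_spec S).mem_open_set_iff hU |>.2 (by rwa [Set.inter_comm] at hUne)
  · obtain ⟨x, ⟨hx, hxU⟩, rfl⟩ := hUE ⟨hs, trivial⟩
    refine hx ?_
    have h := (fibre_flat_iff f g F hfp _ ((f ≫ g).asFiber x)
      (hflat _ (by rw [Scheme.Hom.fiberι_asFiber]; exact hxU))).1 (hflats _)
    rwa [Scheme.Hom.fiberι_asFiber] at h

end Groth.FlatMor2.FibreFlatGeneric
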